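import Groth.Agent.Refl57.Val
import Groth.Agent.SchBasics.Closure
import Mathlib.AlgebraicGeometry.ZariskisMainTheorem
import Mathlib.AlgebraicGeometry.Morphisms.FinitePresentation

/-! Monomorphisms of finite presentation with dense lifting and valuative lifting are immersions. -/

set_option autoImplicit false
set_option backward.isDefEq.respectTransparency.types false
set_option linter.style.haveILetI false
universe u
open CategoryTheory CategoryTheory.Limits AlgebraicGeometry IsLocalRing TopologicalSpace Topology Polynomial Algebra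

namespace Groth.Agent.Refl57

/-- An element in all valuation subrings dominating a local ring is integral over it. -/
theorem isIntegralElem_of_forall_valuationSubring {R K : Type u} [CommRing R] [IsLocalRing R] [Field K]
    (φ : R →+* K) {b : K}
    (h : ∀ (V : ValuationSubring K) (hV : ∀ r, φ r ∈ V), IsLocalHom (φ.codRestrict V.toSubring hV) → b ∈ V) :
    IsIntegral φ.range b := by
  obtain rfl | hb0 := eq_or_ne b 0
  · exact isIntegral_zero
  by_contra hnot
  let := invertibleOfNonzero hb0
  let L := LocalSubring.range φ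
  change ¬ IsIntegral L.toSubring b at hnot
  let B := L.toSubring[b⁻¹]
  let binv : B.toSubring := ⟨b⁻¹, subset_adjoin rfl⟩
  have : (maximalIdeal L.toSubring).map (algebraMap _ B) + .span {binv} ≠ ⊤ := fun eq ↦ hnot <|
    have ⟨p, hp, hpx⟩ := exists_aeval_invOf_eq_zero_of_idealMap_adjoin_sup_span_eq_top _ _
      (maximalIdeal.isMaximal L.toSubring).ne_top eq
    have H : IsUnit p.leadingCoeff := of_not_not fun h ↦ by simpa using sub_mem h hp
    ⟨.C H.unit⁻¹.1 * p, by simp [Polynomial.Monic], by simpa using .inr hpx⟩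
  have ⟨V, hV⟩ := Ideal.image_subset_nonunits_valuationSubring (A := B.toSubring) _ this
  have hle : L ≤ V.toLocalSubring := ⟨fun r hr ↦ hV.1 (B.algebraMap_mem ⟨r, hr⟩),
    ((local_hom_TFAE _).out 3 0).mp fun r hr ↦ by
      have hV' := hV
      rw [← V.image_maximalIdeal] at hV'
      obtain ⟨⟨r, _⟩, hr, rfl⟩ := hV'.2 ⟨_, le_self_add (α := Ideal B) (Ideal.mem_map_of_mem _ hr), rfl⟩
      exact hr⟩
  refine ((V.inv_mem_nonunits_iff.mp <|
    hV.2 ⟨_, le_add_self (α := Ideal B) (Ideal.subset_span rfl), rfl⟩).resolve_left hb0)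
      (h V (fun r => hle.1 ⟨r, rfl⟩) ?_)
  exact @RingHom.isLocalHom_comp _ _ _ _ _ _ _ _ hle.2 (.of_surjective _ φ.rangeRestrict_surjective)

variable {X Y : Scheme.{u}}

/-- The residue lifting hypothesis, as a property. -/
theorem exists_fromSpecResidueField_lift' (f : Y ⟶ X) [Mono f] {x : X} (hx : x ∈ Set.range f) :
    ∃ k : Spec (X.residueField x) ⟶ Y, k ≫ f = X.fromSpecResidueField x := by
  obtain ⟨y, rfl⟩ := hx
  obtain ⟨k, hk, -⟩ := exists_fromSpecResidueField_lift f y
  exact ⟨k, hk⟩

/-- Points of the range between a generization and a point of the range stay in the range. -/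
theorem mem_range_of_between (f : Y ⟶ X) [Mono f]
    (h : ∀ S : ValuativeCommSq f,
      (∃ l₀ : Spec (CommRingCat.of (IsLocalRing.ResidueField S.R)) ⟶ Y,
          l₀ ≫ f = Spec.map (CommRingCat.ofHom (IsLocalRing.residue S.R)) ≫ S.i₂) →
        S.commSq.HasLift)
    {y₀ y₁ : Y} (hy : y₁ ⤳ y₀) {x : X} (h1 : f y₁ ⤳ x) (h0 : x ⤳ f y₀) : x ∈ Set.range f := by
  let ψ := toRes hy
  let φ : X.presheaf.stalk (f y₀) →+* Y.residueField y₁ := ψ.comp (f.stalkMap y₀).hom
  let φc : X.presheaf.stalk (f y₀) ⟶ Y.residueField y₁ := CommRingCat.ofHom φ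
  have hw : Y.fromSpecResidueField y₁ ≫ f = Spec.map φc ≫ X.fromSpecStalk (f y₀) := by
    rw [Scheme.fromSpecResidueField, ← Scheme.SpecMap_stalkSpecializes_fromSpecStalk hy]
    simp only [Category.assoc]
    rw [← Scheme.SpecMap_stalkMap_fromSpecStalk]
    simp only [← Spec.map_comp_assoc]
    rfl
  have hint : ∀ a, IsIntegral φ.range (ψ a) := fun a =>
    (isIntegralElem_of_forall_valuationSubring φ fun V hV hloc => by
      let θ : X.presheaf.stalk (f y₀) →+* V := φ.codRestrict V.toSubring hV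
      haveI : IsLocalHom θ := hloc
      obtain ⟨k₀, hk₀⟩ := exists_fromSpecResidueField_lift' f (x := f y₀) ⟨y₀, rfl⟩
      let c := Spec.map (CommRingCat.ofHom θ) ≫ X.fromSpecStalk (f y₀)
      have w : Y.fromSpecResidueField y₁ ≫ f =
          Spec.map (CommRingCat.ofHom (algebraMap V (Y.residueField y₁))) ≫ c := by
        rw [hw]
        simp only [c]
        refine Eq.trans ?_ (Category.assoc _ _ _)
        refine congrArg (· ≫ X.fromSpecStalk (f y₀)) ?_
        exact (congrArg Spec.map (by ext; rfl)).trans (Spec.map_comp _ _)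
      have e₀ : Spec.map (CommRingCat.ofHom (IsLocalRing.ResidueField.map θ)) ≫
          X.fromSpecResidueField (f y₀) = Spec.map (CommRingCat.ofHom (IsLocalRing.residue V)) ≫ c := by
        rw [Scheme.fromSpecResidueField]
        refine (Category.assoc _ _ _).symm.trans (Eq.trans ?_ (Category.assoc _ _ _))
        refine congrArg (· ≫ X.fromSpecStalk (f y₀)) ?_
        exact (Spec.map_comp _ _).symm.trans ((congrArg Spec.map (by ext; rfl)).trans (Spec.map_comp _ _))
      obtain ⟨l, hl₁, hl₂⟩ := (h ({ R := V, K := Y.residueField y₁, i₁ := Y.fromSpecResidueField y₁, i₂ := c, commSq := ⟨w⟩ } : ValuativeCommSq f)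
          ⟨Spec.map (CommRingCat.ofHom (IsLocalRing.ResidueField.map θ)) ≫ k₀,
            (Category.assoc _ _ _).trans ((congrArg (_ ≫ ·) hk₀).trans e₀)⟩).exists_lift
      dsimp only at hl₁ hl₂
      have hcl : l (closedPoint V) = y₀ := by
        refine injective_of_mono f ?_
        rw [← Scheme.Hom.comp_apply, hl₂, Scheme.Hom.comp_apply,
          show Spec.map (CommRingCat.ofHom θ) (closedPoint V) = closedPoint (X.presheaf.stalk (f y₀))
            from comap_closedPoint (S := V) θ, Scheme.fromSpecStalk_closedPoint]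
      obtain ⟨ρ, hρ⟩ : ∃ ρ : Y.presheaf.stalk y₀ ⟶ CommRingCat.of V, Spec.map ρ ≫ Y.fromSpecStalk y₀ = l := by
        rw [← hcl]
        exact ⟨Scheme.stalkClosedPointTo l, Scheme.Spec_stalkClosedPointTo_fromSpecStalk l⟩
      have he : ρ ≫ CommRingCat.ofHom (algebraMap V (Y.residueField y₁)) = CommRingCat.ofHom ψ := by
        apply Spec.map_injective
        rw [← cancel_mono (Y.fromSpecStalk y₀), Spec.map_comp, Category.assoc, hρ, hl₁,
          Scheme.fromSpecResidueField, ← Scheme.SpecMap_stalkSpecializes_fromSpecStalk hy]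
        refine (Category.assoc _ _ _).symm.trans (congrArg (· ≫ Y.fromSpecStalk y₀) ?_)
        exact (Spec.map_comp _ _).symm
      rw [show ψ a = (ρ.hom a : Y.residueField y₁) from (congrArg (fun m => m.hom a) he).symm]
      exact (ρ.hom a).2)
  obtain ⟨q, rfl⟩ : x ∈ Set.range (X.fromSpecStalk (f y₀)) := by rw [Scheme.range_fromSpecStalk]; exact h0
  have hker : RingHom.ker φ.rangeRestrict ≤ q.asIdeal := by
    let o := Spec.map φc (closedPoint (Y.residueField y₁))
    have ho : X.fromSpecStalk (f y₀) o = f y₁ := by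
      rw [← Scheme.Hom.comp_apply, ← hw, Scheme.Hom.comp_apply, Scheme.fromSpecResidueField_apply]
    have hle : o.asIdeal ≤ q.asIdeal := (PrimeSpectrum.le_iff_specializes o q).mpr
      ((X.fromSpecStalk (f y₀)).isEmbedding.isInducing.specializes_iff.mp (ho ▸ h1))
    refine fun a ha => hle ?_
    change φ a ∈ maximalIdeal (Y.residueField y₁)
    rw [show φ a = 0 from congrArg Subtype.val ha]
    exact Ideal.zero_mem _
  let B := ψ.range
  let incl : φ.range →+* B := Subring.inclusion (by rintro _ ⟨a, rfl⟩; exact ⟨_, rfl⟩)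
  letI := incl.toAlgebra
  haveI : IsScalarTower φ.range B (Y.residueField y₁) := .of_algebraMap_eq fun _ => rfl
  haveI : Algebra.IsIntegral φ.range B := ⟨fun b => by
    obtain ⟨_, a, rfl⟩ := b
    exact (isIntegral_algebraMap_iff (B := Y.residueField y₁) Subtype.val_injective).mp (hint a)⟩
  let q' : Ideal φ.range := q.asIdeal.map φ.rangeRestrict
  haveI : q'.IsPrime := Ideal.map_isPrime_of_surjective φ.rangeRestrict_surjective hker
  obtain ⟨Q, -, hQ, hQq⟩ := Ideal.exists_ideal_over_prime_of_isIntegral q' (⊥ : Ideal B)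
    (le_of_eq_of_le (Ideal.comap_bot_of_injective _ (fun a b e => Subtype.ext (congrArg (Subtype.val : B → _) e)))
      bot_le)
  refine ⟨Y.fromSpecStalk y₀ ⟨Q.comap ψ.rangeRestrict, inferInstance⟩, ?_⟩
  rw [← Scheme.Hom.comp_apply, ← Scheme.SpecMap_stalkMap_fromSpecStalk, Scheme.Hom.comp_apply]
  refine congrArg (X.fromSpecStalk (f y₀)) (PrimeSpectrum.ext ?_)
  change (Q.comap ψ.rangeRestrict).comap (f.stalkMap y₀).hom = q.asIdeal
  rw [Ideal.comap_comap, show ψ.rangeRestrict.comp (f.stalkMap y₀).hom = incl.comp φ.rangeRestrict from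
    RingHom.ext fun _ => rfl, ← Ideal.comap_comap, show Q.comap incl = q' from hQq]
  exact (Ideal.comap_map_of_surjective _ φ.rangeRestrict_surjective _).trans (sup_eq_left.mpr hker)

theorem quasiCompact_of_denseLift [IsLocallyNoetherian X] (f : Y ⟶ X) [Mono f]
    (hc : ∀ (A : Type u) [CommRing A] [IsDomain A] (s : Spec (CommRingCat.of A) ⟶ X)
      (D : Set ↥(Spec (CommRingCat.of A))),
        Dense D →
        (∀ p ∈ D, ∃ l : Spec ((Spec (CommRingCat.of A)).residueField p) ⟶ Y,
            l ≫ f = (Spec (CommRingCat.of A)).fromSpecResidueField p ≫ s) →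
          ∃ U : (Spec (CommRingCat.of A)).Opens, (U : Set ↥(Spec (CommRingCat.of A))).Nonempty ∧
            ∃ l : (U : Scheme.{u}) ⟶ Y, l ≫ f = U.ι ≫ s) :
    QuasiCompact f := by
  rw [quasiCompact_iff_forall_isAffineOpen]
  intro V hV
  haveI : IsNoetherianRing Γ(X, V) := IsLocallyNoetherian.component_noetherian ⟨V, hV⟩
  let R := Γ(X, V)
  let j := hV.fromSpec
  haveI : NoetherianSpace ↥(Spec R) := inferInstanceAs (NoetherianSpace (PrimeSpectrum R))
  suffices ∀ Z : Closeds ↥(Spec R), IsCompact (f ⁻¹' (j '' (Z : Set ↥(Spec R)))) by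
    have h := this ⊤
    rw [Closeds.coe_top, Set.image_univ, hV.range_fromSpec] at h
    exact h
  intro Z
  induction Z using WellFoundedLT.induction with
  | _ Z ih =>
  rcases Z with ⟨Z, hZ⟩
  have ih' : ∀ C : Set ↥(Spec R), IsClosed C → C ⊂ Z → IsCompact (f ⁻¹' (j '' C)) :=
    fun C hC h => ih ⟨C, hC⟩ h
  change IsCompact (f ⁻¹' (j '' Z))
  rcases Set.eq_empty_or_nonempty Z with rfl | hne
  · simp
  by_cases hirr : IsPreirreducible Z
  swap
  · rw [isPreirreducible_iff_isClosed_union_isClosed] at hirr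
    push Not at hirr
    obtain ⟨z₁, z₂, h₁, h₂, hsub, hn₁, hn₂⟩ := hirr
    have he : Z = (Z ∩ z₁) ∪ (Z ∩ z₂) := by
      rw [← Set.inter_union_distrib_left]; exact (Set.inter_eq_left.mpr hsub).symm
    rw [he, Set.image_union, Set.preimage_union]
    exact (ih' _ (hZ.inter h₁) ⟨Set.inter_subset_left, fun h => hn₁ fun x hx => (h hx).2⟩).union
      (ih' _ (hZ.inter h₂) ⟨Set.inter_subset_left, fun h => hn₂ fun x hx => (h hx).2⟩)
  let P := PrimeSpectrum.vanishingIdeal (R := R) Z
  haveI : P.IsPrime := PrimeSpectrum.isIrreducible_iff_vanishingIdeal_isPrime.mp ⟨hne, hirr⟩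
  let A := R ⧸ P
  let m : Spec (CommRingCat.of A) ⟶ Spec R := Spec.map (CommRingCat.ofHom (Ideal.Quotient.mk P))
  haveI : IsClosedImmersion m := IsClosedImmersion.spec_of_surjective _ Ideal.Quotient.mk_surjective
  have hm : Set.range m = Z := by
    change Set.range (PrimeSpectrum.comap (Ideal.Quotient.mk P)) = Z
    rw [range_comap_of_surjective _ _ Ideal.Quotient.mk_surjective, Ideal.mk_ker]
    exact (PrimeSpectrum.zeroLocus_vanishingIdeal_eq_closure Z).trans hZ.closure_eq
  let s := m ≫ j
  let D : Set ↥(Spec (CommRingCat.of A)) := s ⁻¹' Set.range f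
  by_cases hD : Dense D
  · obtain ⟨U, hU, l, hl⟩ := hc A s D hD fun p hp => by
      obtain ⟨k, hk⟩ := exists_fromSpecResidueField_lift' f (x := s p) hp
      exact ⟨Spec.map (s.residueFieldMap p) ≫ k, by
        rw [Category.assoc, hk, Scheme.Hom.SpecMap_residueFieldMap_fromSpecResidueField]⟩
    let C : Set ↥(Spec R) := m '' (U : Set ↥(Spec (CommRingCat.of A)))ᶜ
    have hC : IsClosed C := m.isClosedEmbedding.isClosedMap _ U.2.isClosed_compl
    have hCZ : C ⊂ Z := by
      refine ⟨fun _ ⟨p, _, hp⟩ => hm ▸ ⟨p, hp⟩, fun h => ?_⟩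
      obtain ⟨p, hp⟩ := hU
      obtain ⟨p', hp', e⟩ := h (hm ▸ ⟨p, rfl⟩ : m p ∈ Z)
      exact hp' (m.isClosedEmbedding.injective e ▸ hp)
    have he : f ⁻¹' (j '' Z) = Set.range l ∪ f ⁻¹' (j '' C) := by
      refine Set.Subset.antisymm (fun y hy => ?_) (Set.union_subset ?_ ?_)
      · obtain ⟨z, hz, hzy⟩ := hy
        obtain ⟨p, rfl⟩ : z ∈ Set.range m := hm ▸ hz
        by_cases hpU : p ∈ U
        · left
          refine ⟨⟨p, hpU⟩, injective_of_mono f ?_⟩
          rw [← Scheme.Hom.comp_apply, hl, Scheme.Hom.comp_apply]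
          exact hzy
        · exact Or.inr ⟨m p, ⟨p, hpU, rfl⟩, hzy⟩
      · rintro _ ⟨p, rfl⟩
        refine ⟨m (U.ι p), hm ▸ ⟨_, rfl⟩, ?_⟩
        rw [← Scheme.Hom.comp_apply, ← Scheme.Hom.comp_apply, ← Scheme.Hom.comp_apply, hl]
      · exact fun y hy => Set.image_mono hCZ.1 hy
    rw [he]
    haveI : IsNoetherianRing A := inferInstance
    haveI : NoetherianSpace ↥(Spec (CommRingCat.of A)) := inferInstanceAs (NoetherianSpace (PrimeSpectrum A))
    haveI : CompactSpace U.toScheme :=
      isCompact_iff_compactSpace.mp (NoetherianSpace.isCompact (U : Set ↥(Spec (CommRingCat.of A))))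
    exact (isCompact_range l.continuous).union (ih' C hC hCZ)
  · let C : Set ↥(Spec R) := m '' closure D
    have hC : IsClosed C := m.isClosedEmbedding.isClosedMap _ isClosed_closure
    have hCZ : C ⊂ Z := ⟨fun _ ⟨p, _, hp⟩ => hm ▸ ⟨p, hp⟩, fun h => hD fun p => by
      obtain ⟨p', hp', e⟩ := h (hm ▸ ⟨p, rfl⟩ : m p ∈ Z)
      exact m.isClosedEmbedding.injective e ▸ hp'⟩
    have he : f ⁻¹' (j '' Z) = f ⁻¹' (j '' C) := by
      refine Set.Subset.antisymm (fun y hy => ?_) (Set.preimage_mono (Set.image_mono hCZ.1))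
      obtain ⟨z, hz, hzy⟩ := hy
      obtain ⟨p, rfl⟩ : z ∈ Set.range m := hm ▸ hz
      exact ⟨m p, ⟨p, subset_closure ⟨y, hzy.symm⟩, rfl⟩, hzy⟩
    rw [he]
    exact ih' C hC hCZ

/-- A quasi-compact finitely presented monomorphism with valuative lifting is an immersion. -/
theorem isImmersion_of_valuativeLift [IsLocallyNoetherian X] (f : Y ⟶ X) [Mono f]
    [LocallyOfFinitePresentation f] [QuasiCompact f]
    (h : ∀ S : ValuativeCommSq f,
      (∃ l₀ : Spec (CommRingCat.of (IsLocalRing.ResidueField S.R)) ⟶ Y,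
          l₀ ≫ f = Spec.map (CommRingCat.ofHom (IsLocalRing.residue S.R)) ≫ S.i₂) →
        S.commSq.HasLift) : IsImmersion f := by
  have hrefl : ∀ {y₀ y₁ : Y}, f y₁ ⤳ f y₀ → y₁ ⤳ y₀ := fun {y₀ y₁} hy => by
    let i := inv (pullback.fst f (𝟙 X))
    have hi : ∀ y, pullback.snd f (𝟙 X) (i y) = f y := fun y => by
      rw [← Scheme.Hom.comp_apply]
      exact congrArg (fun a : Y ⟶ X => a y) (by
        rw [← Category.comp_id (pullback.snd f (𝟙 X)), ← pullback.condition, IsIso.inv_hom_id_assoc])
    have := (reflects_of_valuativeLift f h (𝟙 X) (i y₀) (i y₁) (by rw [hi, hi]; exact hy)).map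
      (pullback.fst f (𝟙 X)).continuous
    simpa [i, ← Scheme.Hom.comp_apply] using this
  let C := closure (Set.range f)
  let S := C \ Set.range f
  have hsp : StableUnderSpecialization S := by
    intro x x' hxx' ⟨hxC, hxr⟩
    refine ⟨hxx'.mem_closed isClosed_closure hxC, fun ⟨y₀, hy₀⟩ => hxr ?_⟩
    obtain ⟨y₁, hy₁⟩ := SchBasics.exists_specializes_of_mem_closure_range f hxC
    subst hy₀
    exact mem_range_of_between f h (hrefl (hy₁.trans hxx')) hy₁ hxx'
  have hS : IsClosed S := by
    refine isClosed_of_closure_subset fun x hx => ?_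
    obtain ⟨V, hV, hxV, -⟩ := exists_isAffineOpen_mem_and_subset (x := x) (U := ⊤) trivial
    haveI : IsNoetherianRing Γ(X, V) := IsLocallyNoetherian.component_noetherian ⟨V, hV⟩
    haveI : NoetherianSpace (PrimeSpectrum Γ(X, V)) := inferInstance
    let j := hV.fromSpec
    have hc : IsConstructible (j ⁻¹' S : Set (PrimeSpectrum Γ(X, V))) := by
      have h1 : IsConstructible (j ⁻¹' Set.range f) := by
        refine IsLocallyConstructible.isConstructible ?_
        refine IsLocallyConstructible.preimage_of_isOpenEmbedding ?_ j.isOpenEmbedding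
        rw [← Set.image_univ]
        exact f.isLocallyConstructible_image IsLocallyConstructible.univ
      have h2 : IsConstructible (j ⁻¹' C) :=
        ((IsRetrocompact.isConstructible (isClosed_closure.preimage j.continuous).isOpen_compl
          (fun _ _ _ => NoetherianSpace.isCompact _))).of_compl
      exact h2.sdiff h1
    have hcl := PrimeSpectrum.isClosed_of_stableUnderSpecialization_of_isConstructible
      (hsp.preimage j.continuous) hc
    obtain ⟨t, rfl⟩ : x ∈ Set.range j := by rw [hV.range_fromSpec]; exact hxV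
    have ht : t ∈ closure (j ⁻¹' S) := by
      rw [← j.isOpenEmbedding.isOpenMap.preimage_closure_eq_closure_preimage j.continuous]
      exact hx
    exact hcl.closure_subset ht
  let U : X.Opens := ⟨Sᶜ, hS.isOpen_compl⟩
  have hr : Set.range f ⊆ U := fun x hx hxS => hxS.2 hx
  let f' : Y ⟶ U.toScheme := IsOpenImmersion.lift U.ι f (by rw [Scheme.Opens.range_ι]; exact hr)
  have hf' : f' ≫ U.ι = f := IsOpenImmersion.lift_fac _ _ _
  haveI : Mono f' := mono_of_mono_fac hf'
  haveI : IsSeparated f' := inferInstance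
  haveI : LocallyOfFiniteType (f' ≫ U.ι) := hf'.symm ▸ inferInstance
  haveI : LocallyOfFiniteType f' := locallyOfFiniteType_of_comp f' U.ι
  haveI : QuasiCompact (f' ≫ U.ι) := hf'.symm ▸ inferInstance
  haveI : QuasiCompact f' := QuasiCompact.of_comp f' U.ι
  haveI : UniversallyClosed f' := by
    refine UniversallyClosed.of_valuativeCriterion f' fun T => ?_
    let T' : ValuativeCommSq f := { R := T.R, K := T.K, i₁ := T.i₁, i₂ := T.i₂ ≫ U.ι,
                                    commSq := ⟨by rw [← hf', ← Category.assoc, T.commSq.w, Category.assoc]⟩ }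
    let a₀ : Spec (CommRingCat.of T.R) := closedPoint T.R
    have hmem : T'.i₂ a₀ ∈ Set.range f := by
      by_contra hn
      let o : Spec (CommRingCat.of T.K) := closedPoint T.K
      have hgen : T'.i₂ (Spec.map (CommRingCat.ofHom (algebraMap T.R T.K)) o) ∈ Set.range f :=
        ⟨T.i₁ o, (congrArg (fun a : Spec (CommRingCat.of T.K) ⟶ X => a o) T'.commSq.w :)⟩
      have hsp' := (specializes_closedPoint (R := T.R)
        (Spec.map (CommRingCat.ofHom (algebraMap T.R T.K)) o)).map T'.i₂.continuous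
      exact (T.i₂ a₀).2 ⟨hsp'.mem_closed isClosed_closure (subset_closure hgen), hn⟩
    let g₀ : Spec (CommRingCat.of (IsLocalRing.ResidueField T.R)) ⟶ X :=
      Spec.map (CommRingCat.ofHom (IsLocalRing.residue T.R)) ≫ T'.i₂
    have hg₀ : g₀ (closedPoint (IsLocalRing.ResidueField T.R)) = T'.i₂ a₀ := by
      rw [Scheme.Hom.comp_apply]
      exact congrArg T'.i₂ (comap_closedPoint (IsLocalRing.residue T.R))
    obtain ⟨k, hk⟩ := exists_fromSpecResidueField_lift' f
      (x := g₀ (closedPoint (IsLocalRing.ResidueField T.R))) (hg₀ ▸ hmem)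
    obtain ⟨l, hl₁, hl₂⟩ := (h T' ⟨Spec.map (Scheme.descResidueField (Scheme.stalkClosedPointTo g₀)) ≫ k, by
      rw [Category.assoc, hk, Scheme.descResidueField_stalkClosedPointTo_fromSpecResidueField]⟩).exists_lift
    exact ⟨⟨⟨l, hl₁, by rw [← cancel_mono U.ι, Category.assoc, hf']; exact hl₂⟩⟩⟩
  haveI : IsClosedImmersion f' := (IsClosedImmersion.iff_isProper_and_mono f').mpr ⟨{ }, inferInstance⟩
  rw [← hf']
  infer_instance

end Groth.Agent.Refl57
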