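import Mathlib.AlgebraicGeometry.PullbackCarrier
import Mathlib.AlgebraicGeometry.Morphisms.FiniteType
import Mathlib.RingTheory.FiniteType

/-! Reflecting specializations after base change: reduction to finite type base changes. -/

set_option autoImplicit false
set_option backward.isDefEq.respectTransparency.types false
set_option linter.style.haveILetI false
universe u
open CategoryTheory CategoryTheory.Limits AlgebraicGeometry TensorProduct

namespace Groth.Agent.Refl57

theorem exists_fg_range {A C B : Type u} [CommRing A] [CommRing C] [CommRing B] [Algebra A C] [Algebra A B]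
    (c : C ⊗[A] B) :
    ∃ (B' : Subalgebra A B), B'.FG ∧ c ∈ (Algebra.TensorProduct.map (AlgHom.id A C) B'.val).range := by
  induction c using TensorProduct.induction_on with
  | zero => exact ⟨⊥, Subalgebra.fg_bot, 0, map_zero _⟩
  | tmul a b =>
    exact ⟨Algebra.adjoin A {b}, Subalgebra.fg_adjoin_finset {b} |> (by simpa using ·),
      a ⊗ₜ ⟨b, Algebra.subset_adjoin rfl⟩, by simp⟩
  | add x y hx hy =>
    obtain ⟨B₁, hB₁, u, hu⟩ := hx
    obtain ⟨B₂, hB₂, v, hv⟩ := hy
    refine ⟨B₁ ⊔ B₂, hB₁.sup hB₂,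
      Algebra.TensorProduct.map (AlgHom.id A C) (Subalgebra.inclusion le_sup_left) u +
      Algebra.TensorProduct.map (AlgHom.id A C) (Subalgebra.inclusion le_sup_right) v, ?_⟩
    have h : ∀ (T : Subalgebra A B) (hT : T ≤ B₁ ⊔ B₂) (w : C ⊗[A] T),
        Algebra.TensorProduct.map (AlgHom.id A C) (B₁ ⊔ B₂).val
          (Algebra.TensorProduct.map (AlgHom.id A C) (Subalgebra.inclusion hT) w) =
        Algebra.TensorProduct.map (AlgHom.id A C) T.val w := fun T hT w => by
      induction w using TensorProduct.induction_on with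
      | zero => simp
      | tmul p q => simp
      | add p q hp hq => simp only [map_add, hp, hq]
    change Algebra.TensorProduct.map (AlgHom.id A C) (B₁ ⊔ B₂).val _ = _
    rw [map_add, h B₁ le_sup_left, h B₂ le_sup_right]
    exact congrArg₂ (· + ·) hu hv

variable {X Y : Scheme.{u}} (f : Y ⟶ X)

/-- Reflection of specializations after all base changes follows from base changes of finite type. -/
theorem reflects_of_locallyOfFiniteType
    (h : ∀ (X' : Scheme.{u}) (g : X' ⟶ X) [LocallyOfFiniteType g] (y₀ y₁ : ↥(pullback f g)),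
      (pullback.snd f g).base y₁ ⤳ (pullback.snd f g).base y₀ → y₁ ⤳ y₀)
    (X' : Scheme.{u}) (g : X' ⟶ X) (y₀ y₁ : ↥(pullback f g))
    (hy : (pullback.snd f g).base y₁ ⤳ (pullback.snd f g).base y₀) : y₁ ⤳ y₀ := by
  obtain ⟨V, hV, hxV, -⟩ := exists_isAffineOpen_mem_and_subset
    (x := g (pullback.snd f g y₀)) (U := ⊤) trivial
  obtain ⟨U, hU, hxU, hUV⟩ := exists_isAffineOpen_mem_and_subset
    (x := pullback.snd f g y₀) (U := g ⁻¹ᵁ V) hxV
  have hyV : f (pullback.fst f g y₀) ∈ V := by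
    rw [← Scheme.Hom.comp_apply, pullback.condition, Scheme.Hom.comp_apply]; exact hxV
  obtain ⟨W, hW, hyW, hWV⟩ := exists_isAffineOpen_mem_and_subset
    (x := pullback.fst f g y₀) (U := f ⁻¹ᵁ V) hyV
  letI := (f.appLE V W hWV).hom.toAlgebra
  letI := (g.appLE V U hUV).hom.toAlgebra
  let aC : Spec Γ(Y, W) ⟶ Spec Γ(X, V) := Spec.map (CommRingCat.ofHom (algebraMap Γ(X, V) Γ(Y, W)))
  let aB : Spec Γ(X', U) ⟶ Spec Γ(X, V) := Spec.map (CommRingCat.ofHom (algebraMap Γ(X, V) Γ(X', U)))
  have eC : aC ≫ hV.fromSpec = hW.fromSpec ≫ f := hV.SpecMap_appLE_fromSpec f hW hWV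
  have eB : aB ≫ hV.fromSpec = hU.fromSpec ≫ g := hV.SpecMap_appLE_fromSpec g hU hUV
  -- the chart of `pullback f g` and its finite type approximations
  let p : ∀ B' : Subalgebra Γ(X, V) Γ(X', U), Spec (.of B') ⟶ X := fun B' =>
    Spec.map (CommRingCat.ofHom (algebraMap Γ(X, V) B')) ≫ hV.fromSpec
  have hlft : ∀ B' : Subalgebra Γ(X, V) Γ(X', U), B'.FG → LocallyOfFiniteType (p B') := fun B' hB' => by
    have h1 : Algebra.FiniteType Γ(X, V) B' := (Subalgebra.fg_iff_finiteType B').mp hB'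
    haveI : LocallyOfFiniteType (Spec.map (CommRingCat.ofHom (algebraMap Γ(X, V) B'))) := by
      rw [HasRingHomProperty.Spec_iff (P := @LocallyOfFiniteType)]
      exact RingHom.finiteType_algebraMap.mpr h1
    infer_instance
  let j : Spec (.of (Γ(Y, W) ⊗[Γ(X, V)] Γ(X', U))) ⟶ pullback f g :=
    (pullbackSpecIso Γ(X, V) Γ(Y, W) Γ(X', U)).inv ≫
      pullback.map aC aB f g hW.fromSpec hU.fromSpec hV.fromSpec eC eB
  let j' : ∀ B' : Subalgebra Γ(X, V) Γ(X', U),
      Spec (.of (Γ(Y, W) ⊗[Γ(X, V)] B')) ⟶ pullback f (p B') := fun B' =>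
    (pullbackSpecIso Γ(X, V) Γ(Y, W) B').inv ≫
      pullback.map aC (Spec.map (CommRingCat.ofHom (algebraMap Γ(X, V) B'))) f (p B')
        hW.fromSpec (𝟙 _) hV.fromSpec eC (by simp [p])
  have hrange : ∀ z : ↥(pullback f g), pullback.fst f g z ∈ W → pullback.snd f g z ∈ U →
      z ∈ Set.range j := fun z hzW hzU => by
    have hz : z ∈ Set.range (pullback.map aC aB f g hW.fromSpec hU.fromSpec hV.fromSpec eC eB) := by
      rw [Scheme.Pullback.range_map, hW.range_fromSpec, hU.range_fromSpec]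
      exact ⟨hzW, hzU⟩
    obtain ⟨w, hw⟩ := hz
    refine ⟨(pullbackSpecIso Γ(X, V) Γ(Y, W) Γ(X', U)).hom w, ?_⟩
    rw [← Scheme.Hom.comp_apply, Iso.hom_inv_id_assoc]
    exact hw
  have hyU : pullback.snd f g y₁ ∈ U := hy.mem_open U.2 hxU
  -- the first projection
  have hyW₁ : pullback.fst f g y₁ ∈ W := by
    haveI : LocallyOfFiniteType V.ι := inferInstance
    let O : (pullback f g).Opens := pullback.snd f g ⁻¹ᵁ (g ⁻¹ᵁ V)
    have hO : Set.range (O.ι ≫ pullback.snd f g ≫ g) ⊆ Set.range V.ι := by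
      rw [Scheme.Opens.range_ι]
      rintro _ ⟨o, rfl⟩
      exact o.2
    let q : O.toScheme ⟶ pullback f V.ι :=
      pullback.lift (O.ι ≫ pullback.fst f g) (IsOpenImmersion.lift V.ι _ hO)
        (by rw [IsOpenImmersion.lift_fac, Category.assoc, pullback.condition])
    have h1 : y₁ ∈ O := hUV hyU
    have h0 : y₀ ∈ O := hUV hxU
    have hs : pullback.snd f V.ι (q ⟨y₁, h1⟩) ⤳ pullback.snd f V.ι (q ⟨y₀, h0⟩) := by
      rw [← V.ι.isEmbedding.isInducing.specializes_iff]
      simp only [← Scheme.Hom.comp_apply, q, Category.assoc, pullback.lift_snd_assoc,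
        IsOpenImmersion.lift_fac]
      exact hy.map g.continuous
    have := (h _ V.ι _ _ hs).map (pullback.fst f V.ι).continuous
    simp only [← Scheme.Hom.comp_apply, q, pullback.lift_fst] at this
    exact Specializes.mem_open this W.2 hyW
  obtain ⟨q₀, rfl⟩ := hrange y₀ hyW hxU
  obtain ⟨q₁, rfl⟩ := hrange y₁ hyW₁ hyU
  refine Specializes.map ((PrimeSpectrum.le_iff_specializes q₁ q₀).mp fun c hc => ?_) j.continuous
  obtain ⟨B', hB', c', rfl⟩ := exists_fg_range c
  haveI := hlft B' hB'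
  let π : Spec (.of (Γ(Y, W) ⊗[Γ(X, V)] Γ(X', U))) ⟶ Spec (.of (Γ(Y, W) ⊗[Γ(X, V)] B')) :=
    Spec.map (CommRingCat.ofHom (Algebra.TensorProduct.map (AlgHom.id Γ(X, V) Γ(Y, W)) B'.val).toRingHom)
  let r : Spec Γ(X', U) ⟶ Spec (.of B') := Spec.map (CommRingCat.ofHom B'.val.toRingHom)
  let r₀ : Spec (.of (Γ(Y, W) ⊗[Γ(X, V)] Γ(X', U))) ⟶ Spec (.of Γ(X', U)) :=
    Spec.map (CommRingCat.ofHom Algebra.TensorProduct.includeRight.toRingHom)
  have hsnd : (π ≫ j' B') ≫ pullback.snd f (p B') = r₀ ≫ r := by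
    simp only [π, j', r₀, r, aC, Category.assoc, pullback.lift_snd, pullbackSpecIso_inv_snd,
      Category.comp_id, ← Spec.map_comp]
    congr 1
  have hj : j ≫ pullback.snd f g = r₀ ≫ hU.fromSpec := by
    simp only [j, r₀, aC, aB, Category.assoc, pullback.lift_snd, pullbackSpecIso_inv_snd_assoc]
    rfl
  have hs : (pullback.snd f (p B')) (j' B' (π q₁)) ⤳ (pullback.snd f (p B')) (j' B' (π q₀)) := by
    have e : ∀ q, pullback.snd f (p B') (j' B' (π q)) = r (r₀ q) := fun q => by
      have := congr(($hsnd) q)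
      simpa only [Scheme.Hom.comp_apply] using this
    rw [e, e]
    refine Specializes.map ?_ r.continuous
    rw [← hU.fromSpec.isEmbedding.isInducing.specializes_iff, ← Scheme.Hom.comp_apply,
      ← Scheme.Hom.comp_apply, ← hj, Scheme.Hom.comp_apply, Scheme.Hom.comp_apply]
    exact hy
  have := h _ (p B') _ _ hs
  rw [(j' B').isEmbedding.isInducing.specializes_iff] at this
  exact (PrimeSpectrum.le_iff_specializes (π q₁) (π q₀)).mpr this hc

end Groth.Agent.Refl57
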