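import Groth.Agent.Refl57.FiniteType
import Groth.Agent.SpPts86.MonoField
import Groth.Agent.E4O.DvrDom
import Mathlib.AlgebraicGeometry.ValuativeCriterion
import Mathlib.AlgebraicGeometry.Noetherian

/-! Monomorphisms: reflection of specializations after base change and valuative lifting. -/

set_option autoImplicit false
set_option backward.isDefEq.respectTransparency.types false
set_option linter.style.haveILetI false
universe u
open CategoryTheory CategoryTheory.Limits AlgebraicGeometry IsLocalRing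

namespace Groth.Agent.Refl57

variable {X Y : Scheme.{u}}

theorem injective_of_mono (f : Y ⟶ X) [Mono f] : Function.Injective f := fun a b hab => by
  obtain ⟨z, rfl, rfl⟩ := Scheme.Pullback.exists_preimage_pullback a b hab
  rw [show pullback.fst f f = pullback.snd f f from (cancel_mono f).mp pullback.condition]

/-- For a monomorphism, the residue field point downstairs lifts. -/
theorem exists_fromSpecResidueField_lift {P T : Scheme.{u}} (π : P ⟶ T) [Mono π] (y : P) :
    ∃ k : Spec (T.residueField (π y)) ⟶ P, k ≫ π = T.fromSpecResidueField (π y) ∧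
      ∀ o, k o = y := by
  haveI : Mono (P.fromSpecResidueField y ≫ π) := mono_comp _ _
  have hm := ‹Mono (P.fromSpecResidueField y ≫ π)›
  rw [← Scheme.Hom.SpecMap_residueFieldMap_fromSpecResidueField] at hm
  haveI := hm
  haveI : Mono (Spec.map (π.residueFieldMap y)) := mono_of_mono _ (T.fromSpecResidueField (π y))
  haveI : Nonempty ↥(Spec (P.residueField y)) := ⟨closedPoint (P.residueField y)⟩
  haveI : IsIso (Spec.map (π.residueFieldMap y)) :=
    SpPts86.isIso_of_mono_spec_field (L := T.residueField (π y)) _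
  refine ⟨inv (Spec.map (π.residueFieldMap y)) ≫ P.fromSpecResidueField y, ?_, fun o => ?_⟩
  · rw [Category.assoc, ← Scheme.Hom.SpecMap_residueFieldMap_fromSpecResidueField, IsIso.inv_hom_id_assoc]
  · rw [Scheme.Hom.comp_apply, Scheme.fromSpecResidueField_apply]

variable {X' : Scheme.{u}}

/-- The map to the residue field of a generization. -/
noncomputable abbrev toRes {x₁ x₀ : X'} (h : x₁ ⤳ x₀) : X'.presheaf.stalk x₀ →+* X'.residueField x₁ :=
  (X'.presheaf.stalkSpecializes h ≫ X'.residue x₁).hom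

/-- A lift over a valuation ring centred at `x₁ ⤳ x₀` gives a specialization upstairs. -/
theorem specializes_of_lift (f : Y ⟶ X) [Mono f] (g : X' ⟶ X) (y₀ y₁ : ↥(pullback f g))
    (h : pullback.snd f g y₁ ⤳ pullback.snd f g y₀)
    (A : ValuationSubring (X'.residueField (pullback.snd f g y₁)))
    (hA : ∀ a, toRes h a ∈ A) (hloc : IsLocalHom ((toRes h).codRestrict A.toSubring hA))
    (H : ∀ (i₁ : Spec (CommRingCat.of (X'.residueField (pullback.snd f g y₁))) ⟶ Y)
      (i₂ : Spec (CommRingCat.of A) ⟶ X)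
      (w : CommSq i₁ (Spec.map (CommRingCat.ofHom
        (algebraMap A (X'.residueField (pullback.snd f g y₁))))) f i₂),
      (∃ l₀ : Spec (CommRingCat.of (IsLocalRing.ResidueField A)) ⟶ Y,
        l₀ ≫ f = Spec.map (CommRingCat.ofHom (IsLocalRing.residue A)) ≫ i₂) → w.HasLift) :
    y₁ ⤳ y₀ := by
  let π := pullback.snd f g
  let ψ : X'.presheaf.stalk (π y₀) →+* A := (toRes h).codRestrict A.toSubring hA
  haveI : IsLocalHom ψ := hloc
  let c := Spec.map (CommRingCat.ofHom ψ) ≫ X'.fromSpecStalk (π y₀)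
  have hc : X'.fromSpecResidueField (π y₁) =
      Spec.map (CommRingCat.ofHom (algebraMap A (X'.residueField (π y₁)))) ≫ c := by
    rw [Scheme.fromSpecResidueField, ← Scheme.SpecMap_stalkSpecializes_fromSpecStalk h]
    simp only [c, ← Spec.map_comp_assoc]
    rfl
  obtain ⟨k₁, hk₁, hk₁'⟩ := exists_fromSpecResidueField_lift π y₁
  obtain ⟨k₀, hk₀, -⟩ := exists_fromSpecResidueField_lift π y₀
  have w : (k₁ ≫ pullback.fst f g) ≫ f =
      Spec.map (CommRingCat.ofHom (algebraMap A (X'.residueField (π y₁)))) ≫ c ≫ g := by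
    rw [Category.assoc, pullback.condition, reassoc_of% hk₁, reassoc_of% hc]
  have hl₀ : (Spec.map (CommRingCat.ofHom (IsLocalRing.ResidueField.map ψ)) ≫ k₀ ≫ pullback.fst f g) ≫ f =
      Spec.map (CommRingCat.ofHom (IsLocalRing.residue A)) ≫ c ≫ g := by
    have e₀ : Spec.map (CommRingCat.ofHom (IsLocalRing.ResidueField.map ψ)) ≫
        X'.fromSpecResidueField (π y₀) = Spec.map (CommRingCat.ofHom (IsLocalRing.residue A)) ≫ c := by
      rw [Scheme.fromSpecResidueField]
      simp only [c, ← Spec.map_comp_assoc]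
      refine (Category.assoc _ _ _).symm.trans (congrArg (· ≫ X'.fromSpecStalk (π y₀)) ?_)
      exact (Spec.map_comp _ _).symm.trans (congrArg Spec.map (by ext; rfl))
    rw [← hk₀] at e₀
    rw [Category.assoc, Category.assoc, pullback.condition]
    exact (congrArg (Spec.map (CommRingCat.ofHom (IsLocalRing.ResidueField.map ψ)) ≫ ·)
      (Category.assoc _ _ _).symm).trans ((Category.assoc _ _ _).symm.trans
        ((congrArg (· ≫ g) e₀).trans (Category.assoc _ _ _)))
  obtain ⟨l, hl₁, hl₂⟩ := (H _ _ ⟨w⟩ ⟨_, hl₀⟩).exists_lift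
  let L : Spec (CommRingCat.of A) ⟶ pullback f g := pullback.lift l c hl₂
  have hL₀ : L (closedPoint A) = y₀ := by
    refine injective_of_mono π ?_
    rw [← Scheme.Hom.comp_apply, show L ≫ π = c from pullback.lift_snd _ _ _, Scheme.Hom.comp_apply,
      show Spec.map (CommRingCat.ofHom ψ) (closedPoint A) = closedPoint (X'.presheaf.stalk (π y₀))
        from comap_closedPoint (S := A) ψ, Scheme.fromSpecStalk_closedPoint]
  have hL₁ : Spec.map (CommRingCat.ofHom (algebraMap A (X'.residueField (π y₁)))) ≫ L = k₁ := by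
    apply pullback.hom_ext
    · rw [Category.assoc, pullback.lift_fst, hl₁]
    · rw [Category.assoc, pullback.lift_snd, hk₁, hc]
  have h3 := (specializes_closedPoint (Spec.map (CommRingCat.ofHom
    (algebraMap A (X'.residueField (π y₁)))) (closedPoint (X'.residueField (π y₁))))).map L.continuous
  rw [← Scheme.Hom.comp_apply, hL₁, hk₁', hL₀] at h3
  exact h3

/-- Reflection of specializations from the valuative lifting property. -/
theorem reflects_of_valuativeLift (f : Y ⟶ X) [Mono f]
    (h : ∀ S : ValuativeCommSq f,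
      (∃ l₀ : Spec (CommRingCat.of (IsLocalRing.ResidueField S.R)) ⟶ Y,
          l₀ ≫ f = Spec.map (CommRingCat.ofHom (IsLocalRing.residue S.R)) ≫ S.i₂) →
        S.commSq.HasLift)
    (g : X' ⟶ X) (y₀ y₁ : ↥(pullback f g))
    (hy : pullback.snd f g y₁ ⤳ pullback.snd f g y₀) : y₁ ⤳ y₀ := by
  obtain ⟨A, hA, hloc⟩ := exists_factor_valuationRing (toRes hy)
  exact specializes_of_lift f g y₀ y₁ hy A hA hloc fun i₁ i₂ w hl =>
    h { R := A, K := X'.residueField (pullback.snd f g y₁), i₁ := i₁, i₂ := i₂, commSq := w } hl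

/-- A discrete valuation ring centred at a proper specialization on a locally Noetherian scheme. -/
theorem exists_dvr_centred [IsLocallyNoetherian X'] {x₁ x₀ : X'} (h : x₁ ⤳ x₀) (hne : x₁ ≠ x₀) :
    ∃ (A : ValuationSubring (X'.residueField x₁)) (hA : ∀ a, toRes h a ∈ A),
      IsLocalHom ((toRes h).codRestrict A.toSubring hA) ∧ IsDiscreteValuationRing A := by
  let φ := toRes h
  let O := φ.range
  haveI : IsNoetherianRing O := isNoetherianRing_of_surjective _ O φ.rangeRestrict φ.rangeRestrict_surjective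
  haveI : IsLocalRing O := .of_surjective' φ.rangeRestrict φ.rangeRestrict_surjective
  haveI : IsLocalHom φ.rangeRestrict := .of_surjective _ φ.rangeRestrict_surjective
  have hO : ¬ IsField O := fun hf => hne (by
    rw [← X'.fromSpecStalk_closedPoint (x := x₁), ← Scheme.SpecMap_stalkSpecializes_fromSpecStalk h,
      Scheme.Hom.comp_apply]
    refine (congrArg (X'.fromSpecStalk x₀) ?_).trans X'.fromSpecStalk_closedPoint
    refine PrimeSpectrum.ext (le_antisymm (le_maximalIdeal (Ideal.IsPrime.ne_top ?_)) fun a ha => ?_)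
    · exact (Spec.map (X'.presheaf.stalkSpecializes h) (closedPoint (X'.presheaf.stalk x₁))).isPrime
    · change X'.presheaf.stalkSpecializes h a ∈ maximalIdeal (X'.presheaf.stalk x₁)
      rw [← residue_eq_zero_iff]
      have h0 : φ.rangeRestrict a = 0 := by
        by_contra hne0
        exact ha (isUnit_of_map_unit φ.rangeRestrict a (isUnit_iff_exists_inv.mpr (hf.mul_inv_cancel hne0)))
      exact congrArg Subtype.val h0)
  letI : Algebra O (X'.residueField x₁) := O.subtype.toAlgebra
  haveI : FaithfulSMul O (X'.residueField x₁) :=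
    (faithfulSMul_iff_algebraMap_injective _ _).mpr Subtype.val_injective
  haveI : IsFractionRing O (X'.residueField x₁) := IsFractionRing.of_field O _ fun z => by
    obtain ⟨U, hU, hxU, -⟩ := exists_isAffineOpen_mem_and_subset (x := x₀) (U := ⊤) trivial
    have hxU₁ : x₁ ∈ U := h.mem_open U.2 hxU
    letI := X'.presheaf.algebra_section_stalk ⟨x₁, hxU₁⟩
    haveI := hU.isLocalization_stalk ⟨x₁, hxU₁⟩
    obtain ⟨c, rfl⟩ := X'.residue_surjective x₁ z
    obtain ⟨⟨a, s⟩, hc⟩ := IsLocalization.surj (hU.primeIdealOf ⟨x₁, hxU₁⟩).asIdeal.primeCompl c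
    have hs : (X'.residue x₁).hom (X'.presheaf.germ U x₁ hxU₁ s.1) ≠ 0 :=
      ((IsLocalization.map_units (X'.presheaf.stalk x₁) s).map (X'.residue x₁).hom).ne_zero
    refine ⟨⟨_, X'.presheaf.germ U x₀ hxU a, rfl⟩, ⟨_, X'.presheaf.germ U x₀ hxU s.1, rfl⟩, ?_⟩
    have e : ∀ b : Γ(X', U), φ (X'.presheaf.germ U x₀ hxU b) =
        (X'.residue x₁).hom (X'.presheaf.germ U x₁ hxU₁ b) := fun b =>
      congrArg (X'.residue x₁).hom (TopCat.Presheaf.germ_stalkSpecializes_apply _ hxU h b)
    change _ = φ _ / φ _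
    rw [e, e, eq_div_iff hs, ← map_mul]
    exact congrArg (X'.residue x₁).hom hc
  obtain ⟨V, hV, hmem, hlt⟩ := E4O.exists_dvr_dominating hO (X'.residueField x₁) (X'.residueField x₁)
    ⟨∅, Subsingleton.elim _ _⟩
  refine ⟨V, fun a => hmem (φ.rangeRestrict a), ⟨fun a ha => ?_⟩, hV⟩
  by_contra hna
  have h1 := hlt (φ.rangeRestrict a) (fun hu => hna (isUnit_of_map_unit φ.rangeRestrict a hu))
  have h2 : V.valuation (φ a) = 1 := (V.valuation_eq_one_iff ⟨φ a, hmem (φ.rangeRestrict a)⟩).mp ha
  exact h1.ne h2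

/-- Reflection of specializations from lifting over discrete valuation rings. -/
theorem reflects_of_dvrLift [IsLocallyNoetherian X] (f : Y ⟶ X) [Mono f]
    (h : ∀ S : ValuativeCommSq f, IsDiscreteValuationRing S.R →
      (∃ l₀ : Spec (CommRingCat.of (IsLocalRing.ResidueField S.R)) ⟶ Y,
          l₀ ≫ f = Spec.map (CommRingCat.ofHom (IsLocalRing.residue S.R)) ≫ S.i₂) →
        S.commSq.HasLift)
    (X' : Scheme.{u}) (g : X' ⟶ X) (y₀ y₁ : ↥(pullback f g))
    (hy : (pullback.snd f g).base y₁ ⤳ (pullback.snd f g).base y₀) : y₁ ⤳ y₀ := by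
  refine reflects_of_locallyOfFiniteType f (fun X' g _ y₀ y₁ hy => ?_) X' g y₀ y₁ hy
  haveI := LocallyOfFiniteType.isLocallyNoetherian g
  by_cases e : pullback.snd f g y₁ = pullback.snd f g y₀
  · rw [injective_of_mono _ e]
  · obtain ⟨A, hA, hloc, hdvr⟩ := exists_dvr_centred hy e
    exact specializes_of_lift f g y₀ y₁ hy A hA hloc fun i₁ i₂ w hl =>
      h { R := A, K := X'.residueField (pullback.snd f g y₁), i₁ := i₁, i₂ := i₂, commSq := w } hdvr hl

set_option backward.isDefEq.respectTransparency false in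
/-- Lifting over valuation rings from reflection of specializations. -/
theorem valuativeLift_of_reflects (f : Y ⟶ X)
    (h : ∀ (X' : Scheme.{u}) (g : X' ⟶ X) (y₀ y₁ : ↥(pullback f g)),
      (pullback.snd f g).base y₁ ⤳ (pullback.snd f g).base y₀ → y₁ ⤳ y₀)
    (S : ValuativeCommSq f)
    (hl : ∃ l₀ : Spec (CommRingCat.of (IsLocalRing.ResidueField S.R)) ⟶ Y,
      l₀ ≫ f = Spec.map (CommRingCat.ofHom (IsLocalRing.residue S.R)) ≫ S.i₂) :
    S.commSq.HasLift := by
  obtain ⟨R, K, i₁, i₂, ⟨w⟩⟩ := S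
  obtain ⟨l₀, hl₀⟩ := hl
  have : IsDomain (CommRingCat.of R) := ‹_›
  have : ValuationRing (CommRingCat.of R) := ‹_›
  let : Field (CommRingCat.of K) := ‹_›
  let lft := pullback.lift i₁ (Spec.map (CommRingCat.ofHom (algebraMap R K))) w
  let lft₀ := pullback.lift l₀ (Spec.map (CommRingCat.ofHom (IsLocalRing.residue R))) hl₀
  obtain ⟨x, h₂, h₁⟩ : ∃ x : ↥(pullback f i₂),
      pullback.snd f i₂ x = closedPoint R ∧ lft (closedPoint _) ⤳ x := by
    have e : pullback.snd f i₂ (lft₀ (closedPoint (IsLocalRing.ResidueField R))) = closedPoint R := by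
      rw [← Scheme.Hom.comp_apply, pullback.lift_snd]
      exact comap_closedPoint (S := IsLocalRing.ResidueField R) (IsLocalRing.residue R)
    exact ⟨_, e, h _ i₂ _ _ (e.symm ▸ specializes_closedPoint (R := R) _)⟩
  let e : CommRingCat.of R ≅ (Spec <| .of R).presheaf.stalk (pullback.snd f i₂ x) :=
    (stalkClosedPointIso (.of R)).symm ≪≫
      (Spec <| .of R).presheaf.stalkCongr (.of_eq h₂.symm)
  let α := e.hom ≫ (pullback.snd f i₂).stalkMap x
  have : IsLocalHom e.hom.hom := isLocalHom_of_isIso e.hom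
  have : IsLocalHom α.hom := inferInstanceAs
    (IsLocalHom (((pullback.snd f i₂).stalkMap x).hom.comp e.hom.hom))
  let β := (pullback f i₂).presheaf.stalkSpecializes h₁ ≫ Scheme.stalkClosedPointTo lft
  have hαβ : α ≫ β = CommRingCat.ofHom (algebraMap R K) := by
    simp only [CommRingCat.coe_of, Iso.trans_hom, Iso.symm_hom, TopCat.Presheaf.stalkCongr_hom,
      Category.assoc, α, e, β, stalkClosedPointIso_inv, StructureSheaf.toStalk]
    change (Scheme.ΓSpecIso (.of R)).inv ≫ (Spec <| .of R).presheaf.germ _ _ _ ≫ _ = _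
    simp only [TopCat.Presheaf.germ_stalkSpecializes_assoc, Scheme.Hom.germ_stalkMap_assoc]
    simp only [TopologicalSpace.Opens.map_top]
    rw [Scheme.germ_stalkClosedPointTo lft ⊤ trivial]
    erw [← Scheme.Hom.comp_app_assoc lft (pullback.snd f i₂)]
    rw [pullback.lift_snd]
    simp
  have hbij := (bijective_rangeRestrict_comp_of_valuationRing (R := R) (K := K) α.hom β.hom
    (CommRingCat.hom_ext_iff.mp hαβ))
  let φ : (pullback f i₂).presheaf.stalk x ⟶ CommRingCat.of R := CommRingCat.ofHom <|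
    (RingEquiv.ofBijective _ hbij).symm.toRingHom.comp β.hom.rangeRestrict
  have hαφ : α ≫ φ = 𝟙 _ := by ext x; exact (RingEquiv.ofBijective _ hbij).symm_apply_apply x
  have hαφ' : (pullback.snd f i₂).stalkMap x ≫ φ = e.inv := by
    rw [← cancel_epi e.hom, ← Category.assoc, hαφ, e.hom_inv_id]
  have hφβ : φ ≫ CommRingCat.ofHom (algebraMap R K) = β :=
    hαβ ▸ CommRingCat.hom_ext (RingHom.ext fun x ↦ congr_arg Subtype.val
      ((RingEquiv.ofBijective _ hbij).apply_symm_apply (β.hom.rangeRestrict x)))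
  refine ⟨⟨⟨Spec.map ((pullback.fst f i₂).stalkMap x ≫ φ) ≫ Y.fromSpecStalk _, ?_, ?_⟩⟩⟩
  · simp only [← Spec.map_comp_assoc, Category.assoc, hφβ]
    simp only [Spec.map_comp, Category.assoc, Scheme.SpecMap_stalkMap_fromSpecStalk,
      Scheme.SpecMap_stalkSpecializes_fromSpecStalk_assoc, β]
    rw [Scheme.Spec_stalkClosedPointTo_fromSpecStalk_assoc]
    simp [lft]
  · simp only [Spec.map_comp, Category.assoc, Scheme.SpecMap_stalkMap_fromSpecStalk,
      pullback.condition]
    rw [← Scheme.SpecMap_stalkMap_fromSpecStalk_assoc, ← Spec.map_comp_assoc, hαφ']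
    simp only [Iso.trans_inv, TopCat.Presheaf.stalkCongr_inv, Iso.symm_inv, Spec.map_comp,
      Category.assoc, Scheme.SpecMap_stalkSpecializes_fromSpecStalk_assoc, e]
    rw [← Spec_stalkClosedPointIso, ← Spec.map_comp_assoc,
      Iso.inv_hom_id, Spec.map_id, Category.id_comp]

end Groth.Agent.Refl57
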